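import Cfsg.Agent.H51.E6Max.Witness
import Cfsg.Agent.H51.E6Max.La.Check
import Cfsg.Agent.H51.E6Max.Lb.Check
import Cfsg.Agent.H51.E6Max.Le.Check
import Cfsg.Agent.H51.E6Max.Lg.Check
import Cfsg.Agent.H51.E6Max.L11.Check
import Cfsg.Agent.H51.E6Max.L13.Check
import Cfsg.Agent.H51.E6Max.L17.Check
import Cfsg.Agent.H51.E6Max.L19.Check

/-!
The cyclic subgroups: for each chosen element, the normaliser of the group it generates is not maximal.
-/

set_option autoImplicit false
set_option maxRecDepth 100000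
set_option maxHeartbeats 0

namespace H51.E6Max

open Cfsg.Lie H52 H60.TE6 H36.E6Max H48.E6Max Matrix

universe u

variable {K : Type u} [Field K] [CharP K 2] {w : K}

/-- An element with the given matrix, of prime order, generating a group with normaliser not maximal. -/
def CaseGood (K : Type u) [Field K] (w : K) (p X : ℕ) : Prop :=
  ∃ x : twistedE6 K 2, mat x = toK w X ∧ x ^ p = 1 ∧ x ≠ 1 ∧
    ¬ IsCoatom (Subgroup.normalizer (Subgroup.zpowers x : Set (twistedE6 K 2)))

variable (hw : w * w = w + 1) (hE : EquivFor w)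
include hw hE

theorem case_a : CaseGood K w 7 La.X := by
  have hx := mat_elG hw La.xw_lt La.x_eq
  have hh := mat_elG hw La.hw_lt La.h_eq
  refine ⟨_, hx, (pow_sem hw hx La.x_pow).2,
    ne_one hw (by norm_num) hx La.x_pow hh La.h_sq La.h_out, ?_⟩
  refine not_coatom_cert hw (fun n hn => ?_) La.W_zero La.W_split hh La.h_sq La.h_stab
    (not_mem_normalizer hw (by norm_num) hx La.x_pow hh La.h_sq La.h_out)
    (mat_elG hw La.gw_lt La.g_eq) La.g_move
  rw [← br_eq hw La.WT La.wt_lt La.W_zero La.W_split La.w_le La.w_ge,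
    ← fix_eq hw hx La.a_eq La.F_zero La.F_split]
  exact act_brSp hE (act_fixSp hn) (act_fixSp hn)

theorem case_b : CaseGood K w 7 Lb.X := by
  have hx := mat_elG hw Lb.xw_lt Lb.x_eq
  have hh := mat_elG hw Lb.hw_lt Lb.h_eq
  refine ⟨_, hx, (pow_sem hw hx Lb.x_pow).2,
    ne_one hw (by norm_num) hx Lb.x_pow hh Lb.h_sq Lb.h_out, ?_⟩
  refine not_coatom_cert hw (fun n hn => ?_) Lb.W_zero Lb.W_split hh Lb.h_sq Lb.h_stab
    (not_mem_normalizer hw (by norm_num) hx Lb.x_pow hh Lb.h_sq Lb.h_out)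
    (mat_elG hw Lb.gw_lt Lb.g_eq) Lb.g_move
  rw [← br_eq hw Lb.WT Lb.wt_lt Lb.W_zero Lb.W_split Lb.w_le Lb.w_ge,
    ← fix_eq hw hx Lb.a_eq Lb.F_zero Lb.F_split]
  exact act_brSp hE (act_fixSp hn) (act_fixSp hn)

theorem case_e : CaseGood K w 7 Le.X := by
  have hx := mat_elG hw Le.xw_lt Le.x_eq
  have hh := mat_elG hw Le.hw_lt Le.h_eq
  refine ⟨_, hx, (pow_sem hw hx Le.x_pow).2,
    ne_one hw (by norm_num) hx Le.x_pow hh Le.h_sq Le.h_out, ?_⟩
  refine not_coatom_cert hw (fun n hn => ?_) Le.W_zero Le.W_split hh Le.h_sq Le.h_stab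
    (not_mem_normalizer hw (by norm_num) hx Le.x_pow hh Le.h_sq Le.h_out)
    (mat_elG hw Le.gw_lt Le.g_eq) Le.g_move
  rw [← br_eq hw Le.WT Le.wt_lt Le.W_zero Le.W_split Le.w_le Le.w_ge,
    ← fix_eq hw hx Le.a_eq Le.F_zero Le.F_split]
  exact act_brSp hE (act_fixSp hn) (act_fixSp hn)

theorem case_g : CaseGood K w 7 Lg.X := by
  have hx := mat_elG hw Lg.xw_lt Lg.x_eq
  have hh := mat_elG hw Lg.hw_lt Lg.h_eq
  refine ⟨_, hx, (pow_sem hw hx Lg.x_pow).2,
    ne_one hw (by norm_num) hx Lg.x_pow hh Lg.h_sq Lg.h_out, ?_⟩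
  refine not_coatom_cert hw (fun n hn => ?_) Lg.W_zero Lg.W_split hh Lg.h_sq Lg.h_stab
    (not_mem_normalizer hw (by norm_num) hx Lg.x_pow hh Lg.h_sq Lg.h_out)
    (mat_elG hw Lg.gw_lt Lg.g_eq) Lg.g_move
  rw [← br_eq hw Lg.WT Lg.wt_lt Lg.W_zero Lg.W_split Lg.w_le Lg.w_ge,
    ← fix_eq hw hx Lg.a_eq Lg.F_zero Lg.F_split]
  exact act_brSp hE (act_fixSp hn) (act_fixSp hn)

theorem case_11 : CaseGood K w 11 L11.X := by
  have hx := mat_elG hw L11.xw_lt L11.x_eq
  have hh := mat_elG hw L11.hw_lt L11.h_eq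
  refine ⟨_, hx, (pow_sem hw hx L11.x_pow).2,
    ne_one hw (by norm_num) hx L11.x_pow hh L11.h_sq L11.h_out, ?_⟩
  refine not_coatom_cert hw (fun n hn => ?_) L11.W_zero L11.W_split hh L11.h_sq L11.h_stab
    (not_mem_normalizer hw (by norm_num) hx L11.x_pow hh L11.h_sq L11.h_out)
    (mat_elG hw L11.gw_lt L11.g_eq) L11.g_move
  rw [← br_eq hw L11.WT L11.wt_lt L11.W_zero L11.W_split L11.w_le L11.w_ge,
    ← fix_eq hw hx L11.a_eq L11.F_zero L11.F_split]
  exact act_brSp hE (act_fixSp hn) (act_fixSp hn)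

theorem case_19 : CaseGood K w 19 L19.X := by
  have hx := mat_elG hw L19.xw_lt L19.x_eq
  have hh := mat_elG hw L19.hw_lt L19.h_eq
  have hp : Nat.Prime 19 := by norm_num
  have h1 := (pow_sem hw hx L19.x_pow).2
  have hEB := img_eq hw hx L19.a_eq L19.e_u L19.e_qa L19.E_zero L19.E_split
  have hxN := Subgroup.le_normalizer (Subgroup.mem_zpowers (elG hw L19.xw L19.xw_lt))
  have hxE := act_imgSp hxN
  rw [hEB] at hxE
  have hA := tw_eq hw (c := 14) (by norm_num) hx L19.x_pow hxE L19.A_u L19.A_k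
    (by rw [L19.A_len]; norm_num)
    (fun k hk => by
      rw [L19.A_len] at hk
      interval_cases k
      · exact L19.A_m0
      · exact L19.A_m1
      · exact L19.A_m2
      · exact L19.A_m3
      )
    L19.A_zero L19.A_split L19.A_le L19.A_ge
  refine ⟨_, hx, h1, ne_one hw (by norm_num) hx L19.x_pow hh L19.h_sq L19.h_out, ?_⟩
  refine not_coatom_cert hw (fun n hn => ?_) L19.A_zero L19.A_split hh L19.h_sq L19.h_stab
    (not_mem_normalizer hw (by norm_num) hx L19.x_pow hh L19.h_sq L19.h_out)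
    (mat_elG hw L19.gw_lt L19.g_eq) L19.g_move
  have hnE := act_imgSp hn
  rw [hEB] at hnE
  have hnA : act n (colSp w L19.AB) = colSp w L19.AB := by
    rw [← hA]; exact act_twSp hE hp h1 hn hnE hnE
  exact hnA

theorem case_13 : CaseGood K w 13 L13.X := by
  have hx := mat_elG hw L13.xw_lt L13.x_eq
  have hh := mat_elG hw L13.hw_lt L13.h_eq
  have hp : Nat.Prime 13 := by norm_num
  have h1 := (pow_sem hw hx L13.x_pow).2
  have hEB := img_eq hw hx L13.a_eq L13.e_u L13.e_qa L13.E_zero L13.E_split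
  have hxN := Subgroup.le_normalizer (Subgroup.mem_zpowers (elG hw L13.xw L13.xw_lt))
  have hxE := act_imgSp hxN
  rw [hEB] at hxE
  have hA := tw_eq hw (c := 12) (by norm_num) hx L13.x_pow hxE L13.A_u L13.A_k
    (by rw [L13.A_len]; norm_num)
    (fun k hk => by
      rw [L13.A_len] at hk
      interval_cases k
      · exact L13.A_m0
      · exact L13.A_m1
      · exact L13.A_m2
      · exact L13.A_m3
      · exact L13.A_m4
      · exact L13.A_m5
      )
    L13.A_zero L13.A_split L13.A_le L13.A_ge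
  have hxA : act (elG hw L13.xw L13.xw_lt) (colSp w L13.AB) = colSp w L13.AB := by
    rw [← hA]; exact act_twSp hE hp h1 hxN hxE hxE
  have hW := tw_eq hw (c := 12) (by norm_num) hx L13.x_pow hxA L13.W_u L13.W_k
    (by rw [L13.W_len]; norm_num)
    (fun k hk => by
      rw [L13.W_len] at hk
      interval_cases k
      · exact L13.W_m0
      · exact L13.W_m1
      · exact L13.W_m2
      · exact L13.W_m3
      · exact L13.W_m4
      )
    L13.W_zero L13.W_split L13.W_le L13.W_ge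
  refine ⟨_, hx, h1, ne_one hw (by norm_num) hx L13.x_pow hh L13.h_sq L13.h_out, ?_⟩
  refine not_coatom_cert hw (fun n hn => ?_) L13.W_zero L13.W_split hh L13.h_sq L13.h_stab
    (not_mem_normalizer hw (by norm_num) hx L13.x_pow hh L13.h_sq L13.h_out)
    (mat_elG hw L13.gw_lt L13.g_eq) L13.g_move
  have hnE := act_imgSp hn
  rw [hEB] at hnE
  have hnA : act n (colSp w L13.AB) = colSp w L13.AB := by
    rw [← hA]; exact act_twSp hE hp h1 hn hnE hnE
  rw [← hW]; exact act_twSp hE hp h1 hn hnA hnA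

theorem case_17 : CaseGood K w 17 L17.X := by
  have hx := mat_elG hw L17.xw_lt L17.x_eq
  have hh := mat_elG hw L17.hw_lt L17.h_eq
  have hp : Nat.Prime 17 := by norm_num
  have h1 := (pow_sem hw hx L17.x_pow).2
  have hEB := img_eq hw hx L17.a_eq L17.e_u L17.e_qa L17.E_zero L17.E_split
  have hxN := Subgroup.le_normalizer (Subgroup.mem_zpowers (elG hw L17.xw L17.xw_lt))
  have hxE := act_imgSp hxN
  rw [hEB] at hxE
  have hA := tw_eq hw (c := 4) (by norm_num) hx L17.x_pow hxE L17.A_u L17.A_k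
    (by rw [L17.A_len]; norm_num)
    (fun k hk => by
      rw [L17.A_len] at hk
      interval_cases k
      · exact L17.A_m0
      · exact L17.A_m1
      · exact L17.A_m2
      · exact L17.A_m3
      · exact L17.A_m4
      · exact L17.A_m5
      · exact L17.A_m6
      · exact L17.A_m7
      )
    L17.A_zero L17.A_split L17.A_le L17.A_ge
  refine ⟨_, hx, h1, ne_one hw (by norm_num) hx L17.x_pow hh L17.h_sq L17.h_out, ?_⟩
  refine not_coatom_cert hw (fun n hn => ?_) L17.W_zero L17.W_split hh L17.h_sq L17.h_stab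
    (not_mem_normalizer hw (by norm_num) hx L17.x_pow hh L17.h_sq L17.h_out)
    (mat_elG hw L17.gw_lt L17.g_eq) L17.g_move
  have hnE := act_imgSp hn
  rw [hEB] at hnE
  have hnA : act n (colSp w L17.AB) = colSp w L17.AB := by
    rw [← hA]; exact act_twSp hE hp h1 hn hnE hnE
  rw [← sup_eq hw L17.w_f L17.w_a L17.w_sum, act_sup, hnA,
    ← fix_eq hw hx L17.a_eq L17.F_zero L17.F_split, act_fixSp hn]

end H51.E6Max
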