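import Cfsg.Agent.H36.E6Max.Ops
import Cfsg.Agent.H48.E6Max.Fast

/-!
Reading checked packed identities as equalities of subspaces.
-/

set_option autoImplicit false
set_option maxRecDepth 100000

namespace H51.E6Max

open Cfsg.Lie H52 H60.TE6 H36.E6Max H48.E6Max Matrix

universe u

/-- The coded word of root elements of a word in letters. -/
def lw (l : List ℕ) : List (ℕ × ℕ) := l.flatMap fun k => letters.getD k []

/-- The column of a packed matrix is zero. -/
def colZero (B k : ℕ) : Bool := (List.range 78).all fun i => Nat.beq (ent B i k) 0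

/-- A list of powers. -/
def powB (p X : ℕ) (Xs : List ℕ) : Bool :=
  Nat.beq (Xs.getD 0 0) idY && Nat.beq (Xs.getD p 0) idY &&
    (List.range p).all fun i => Nat.beq (mulP X (Xs.getD i 0)) (Xs.getD (i + 1) 0)

/-- An exclusive or of values. -/
def xorAll (f : ℕ → ℕ) (n : ℕ) : ℕ := (List.range n).foldl (fun acc i => acc ^^^ f i) 0

/-- The averaged bracket matrix of column `k` of `U`. -/
def twMat (p c U k : ℕ) (Xs : List ℕ) : ℕ :=
  xorAll (fun i => mulP (adColF (mulP (Xs.getD i 0) U) k) (Xs.getD (c * i % p) 0)) p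

/-- The brackets of two column spaces lie in a kernel. -/
def brLeB (Q BA BB : ℕ) : Bool :=
  (List.range 78).all fun j => colZero BA j || Nat.beq (mulP Q (mulP (adColF BA j) BB)) 0

/-- A combination of brackets. -/
def brSum (BA BB : ℕ) (l : List (ℕ × ℕ)) : ℕ :=
  l.foldl (fun acc q => acc ^^^ mulP (mulP (adColF BA q.1) BB) q.2) 0

/-- The averaged brackets of generators lie in a kernel. -/
def twLeB (Q BB U : ℕ) (Ms : List ℕ) : Bool :=
  (List.range 78).all fun k =>
    if k < Ms.length then Nat.beq (mulP Q (mulP (Ms.getD k 0) BB)) 0 else colZero U k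

section Sem

variable {K : Type u} [Field K] [CharP K 2] {w : K} (hw : w * w = w + 1)
include hw

theorem el_mem {l : List ℕ} (hl : ∀ k ∈ l, k < 16) : el w (lw l) ∈ twistedE6 K 2 := by
  induction l with
  | nil => simp [lw, el, kw, wordRt, one_mem]
  | cons k l ih =>
    rw [lw, List.flatMap_cons, el_append]
    exact mul_mem (letter_mem hw (hl k (by simp))) (ih fun a ha => hl a (List.mem_cons_of_mem _ ha))

/-- The element of a word in letters. -/
noncomputable def elG (l : List ℕ) (hl : ∀ k ∈ l, k < 16) : twistedE6 K 2 :=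
  ⟨el w (lw l), el_mem hw hl⟩

omit [CharP K 2] hw in
theorem letters_small : ∀ k < 16, ∀ p ∈ letters.getD k [], p.1 < 12 ∧ p.2 < 4 := by decide +kernel

theorem mat_elG {l : List ℕ} (hl : ∀ k ∈ l, k < 16) {X : ℕ} (hX : evL (lw l) idY = X) :
    mat (elG hw l hl) = toK w X := by
  have hsmall : ∀ p ∈ lw l, p.1 < 12 ∧ p.2 < 4 := by
    intro p hp
    obtain ⟨k, hk, hpk⟩ := List.mem_flatMap.1 hp
    exact letters_small k (hl k hk) p hpk
  rw [← hX, evL_toK hw _ hsmall, toK_idY, mul_one]
  rfl

omit [CharP K 2] hw in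
theorem ker_sub_id [CharP K 2] (M : Matrix chevE6.Idx chevE6.Idx K) :
    Matrix.mulVecLin M - LinearMap.id = Matrix.mulVecLin (M + 1) := by
  ext v i
  simp [CharTwo.sub_eq_add]

theorem ker_eq {A B R C : ℕ} (h0 : mulP A B = 0) (h1 : mulP R A ^^^ mulP B C = idY) :
    LinearMap.ker (Matrix.mulVecLin (toK w A)) = colSp w B := by
  rw [colSp_eq]
  refine ker_eq_range (R := toK w R) (C := toK w C) ?_ ?_
  · rw [← toK_mulP hw, h0, toK_zero]
  · rw [← toK_mulP hw, ← toK_mulP hw, ← toK_add, h1, toK_idY]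

theorem fix_eq {x : twistedE6 K 2} {X A B R C : ℕ} (hx : mat x = toK w X) (hA : X ^^^ idY = A)
    (h0 : mulP A B = 0) (h1 : mulP R A ^^^ mulP B C = idY) :
    fixSp (mats (Subgroup.zpowers x)) = colSp w B := by
  rw [fixSp_zpowers, ker_sub_id, ← ker_eq hw h0 h1, ← hA, toK_add, toK_idY, hx]

theorem img_eq {x : twistedE6 K 2} {X A E U Q R C : ℕ} (hx : mat x = toK w X) (hA : X ^^^ idY = A)
    (hU : mulP A U = E) (hQA : mulP Q A = 0) (h0 : mulP Q E = 0)
    (h1 : mulP R Q ^^^ mulP E C = idY) :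
    imgSp (mats (Subgroup.zpowers x)) = colSp w E := by
  have e : mat x + 1 = toK w A := by rw [hx, ← toK_idY (w := w), ← toK_add, hA]
  rw [imgSp_zpowers, ker_sub_id, e]
  refine le_antisymm ?_ ?_
  · rw [← ker_eq hw h0 h1]
    rintro _ ⟨v, rfl⟩
    simp only [LinearMap.mem_ker, mulVecLin_apply, mulVec_mulVec]
    rw [← toK_mulP hw, hQA, toK_zero, zero_mulVec]
  · rw [colSp_eq]
    exact range_le_of_mul (by rw [← hU, toK_mulP hw])

theorem col_zero {B k : ℕ} (h : colZero B k = true) (j : chevE6.Idx) (hj : code chevE6 j = k) :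
    (fun i => toK w B i j) = 0 := by
  funext i
  simp only [colZero, List.all_eq_true, List.mem_range] at h
  have h2 := Nat.eq_of_beq_eq_true (h _ (code_lt i))
  show rv w (rowOf B (code chevE6 i)) (code chevE6 j) = 0
  rw [hj, ← val_rent, ← ent, h2, (val_vals w).1]

omit [CharP K 2] hw in
theorem adMat_zero : adMat w (0 : V K) = 0 := by simp [adMat]

theorem br_eq {BA BB BW Q R C : ℕ} (l : List (ℕ × ℕ)) (hl : ∀ q ∈ l, q.1 < 78)
    (h0 : mulP Q BW = 0) (h1 : mulP R Q ^^^ mulP BW C = idY) (hle : brLeB Q BA BB = true)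
    (hge : brSum BA BB l = BW) :
    brSp w (colSp w BA) (colSp w BB) = colSp w BW := by
  refine le_antisymm ?_ ?_
  · rw [← ker_eq hw h0 h1, colSp_eq, colSp_eq]
    refine brSp_le_ker w fun j => ?_
    simp only [brLeB, List.all_eq_true, List.mem_range, Bool.or_eq_true] at hle
    rcases hle _ (code_lt j) with h | h
    · rw [col_zero hw h j rfl, adMat_zero, mul_zero, zero_mul]
    · have h2 := congrArg (toK w) (Nat.eq_of_beq_eq_true h)
      rwa [toK_zero, toK_mulP hw, toK_mulP hw, toK_adColF hw, ← mul_assoc] at h2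
  · have hidx : ∀ q ∈ l, ∃ j : chevE6.Idx, code chevE6 j = q.1 := fun q hq =>
      H48.E6Max.exists_code (hl q hq)
    rw [colSp_eq, colSp_eq, colSp_eq]
    choose f hf using hidx
    refine range_le_brSp w (l.attach.map fun q => (f q.1 q.2, toK w q.1.2)) ?_
    rw [List.map_map, ← hge, brSum, toK_foldl]
    conv_lhs => rw [← List.attach_map_subtype_val l, List.map_map]
    refine congrArg List.sum (List.map_congr_left fun q _ => ?_)
    simp only [Function.comp_apply]
    rw [toK_mulP hw, toK_mulP hw, ← hf q.1 q.2, toK_adColF hw]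

theorem pow_sem {x : twistedE6 K 2} {X p : ℕ} {Xs : List ℕ} (hx : mat x = toK w X)
    (h : powB p X Xs = true) : (∀ i ≤ p, toK w (Xs.getD i 0) = mat x ^ i) ∧ x ^ p = 1 := by
  simp only [powB, Bool.and_eq_true, List.all_eq_true, List.mem_range] at h
  obtain ⟨⟨h0, hp⟩, hs⟩ := h
  have hpow : ∀ i ≤ p, toK w (Xs.getD i 0) = mat x ^ i := by
    intro i
    induction i with
    | zero => intro _; rw [Nat.eq_of_beq_eq_true h0, toK_idY, pow_zero]
    | succ i ih =>
      intro hi
      rw [← Nat.eq_of_beq_eq_true (hs i hi), toK_mulP hw, ih (by omega), pow_succ', hx]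
  refine ⟨hpow, Subtype.ext (Units.ext ?_)⟩
  show mat (x ^ p) = 1
  rw [mat_pow, ← hpow p le_rfl, Nat.eq_of_beq_eq_true hp, toK_idY]

theorem toK_xorAll (f : ℕ → ℕ) (n : ℕ) :
    toK w (xorAll f n) = ∑ i ∈ Finset.range n, toK w (f i) := by
  rw [xorAll, toK_foldl, ← List.sum_toFinset _ List.nodup_range, List.toFinset_range]

theorem tw_eq {x : twistedE6 K 2} {X p c BA BB U U0 BW Q R C : ℕ} {Xs Ks Ms Ts : List ℕ}
    (hp : 0 < p) (hx : mat x = toK w X) (hX : powB p X Xs = true)
    (hBx : act x (colSp w BB) = colSp w BB)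
    (hU : mulP BA U0 = U)
    (hK : xorAll (fun i => mulP (mulP (Xs.getD i 0) U) (Ks.getD i 0)) p = BA)
    (hlen : Ms.length ≤ 78)
    (hM : ∀ k < Ms.length, twMat p c U k Xs = Ms.getD k 0)
    (h0 : mulP Q BW = 0) (h1 : mulP R Q ^^^ mulP BW C = idY)
    (hle : twLeB Q BB U Ms = true)
    (hge : xorAll (fun k => mulP (mulP (Ms.getD k 0) BB) (Ts.getD k 0)) Ms.length = BW) :
    twSp w (mat x) p c (colSp w BA) (colSp w BB) = colSp w BW := by
  obtain ⟨hpow, hone⟩ := pow_sem hw hx hX
  have hx1 : mat x ^ p = 1 := by rw [← mat_pow, hone]; rfl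
  have hmod : ∀ i, mat x ^ (i % p) = mat x ^ i := fun i => (pow_eq_pow_mod i hx1).symm
  have hsum : ∀ (k : chevE6.Idx), code chevE6 k < Ms.length →
      (∑ i ∈ Finset.range p, adMat w ((mat x ^ i) *ᵥ fun z => toK w U z k) * mat x ^ (c * i)) =
        toK w (Ms.getD (code chevE6 k) 0) := by
    intro k hk
    rw [← hM _ hk, twMat, toK_xorAll hw]
    refine Finset.sum_congr rfl fun i hi => ?_
    rw [toK_mulP hw, toK_adColF hw, hpow _ (Nat.mod_lt _ hp).le, hmod, toK_mulP hw,
      hpow _ (Finset.mem_range.1 hi).le]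
    rfl
  refine le_antisymm ?_ ?_
  · rw [← ker_eq hw h0 h1, colSp_eq w BB]
    refine twSp_le_ker w hx1 (fun k => fun z => toK w U z k) ?_ ?_ fun k => ?_
    · rw [colSp_eq]
      rintro _ ⟨v, rfl⟩
      rw [← hK, toK_xorAll hw, mulVecLin_apply, sum_mulVec]
      refine Submodule.sum_mem _ fun i hi => ?_
      rw [toK_mulP hw, toK_mulP hw, hpow _ (Finset.mem_range.1 hi).le, ← mulVec_mulVec,
        ← mulVec_mulVec]
      set t := toK w (Ks.getD i 0) *ᵥ v with ht
      have e : toK w U *ᵥ t = ∑ k, t k • (fun z => toK w U z k) := by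
        funext z; simp [Matrix.mulVec, dotProduct, mul_comm]
      rw [e, mulVec_sum]
      refine Submodule.sum_mem _ fun k _ => ?_
      rw [mulVec_smul]
      exact Submodule.smul_mem _ _ (Submodule.subset_span ⟨k, i, rfl⟩)
    · intro b hb
      rw [← colSp_eq] at hb ⊢
      rw [← hBx]
      exact ⟨b, hb, rfl⟩
    · simp only [twLeB, List.all_eq_true, List.mem_range] at hle
      have h := hle _ (code_lt k)
      by_cases hk : code chevE6 k < Ms.length
      · rw [if_pos hk] at h
        have h2 := congrArg (toK w) (Nat.eq_of_beq_eq_true h)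
        rw [toK_zero, toK_mulP hw, toK_mulP hw, ← mul_assoc] at h2
        rwa [hsum k hk]
      · rw [if_neg hk] at h
        rw [col_zero hw h k rfl]
        simp [adMat_zero]
  · have hidx : ∀ k : Fin Ms.length, ∃ j : chevE6.Idx, code chevE6 j = k :=
      fun k => H48.E6Max.exists_code (by omega)
    choose f hf using hidx
    rw [colSp_eq w BB, colSp_eq w BW]
    refine range_le_twSp w ((List.finRange Ms.length).map fun k =>
      ((fun z => toK w U z (f k)), toK w (Ts.getD k 0))) ?_ ?_
    · intro q hq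
      obtain ⟨k, -, rfl⟩ := List.mem_map.1 hq
      rw [colSp_eq]
      refine ⟨fun z => toK w U0 z (f k), ?_⟩
      rw [← hU, toK_mulP hw, mulVecLin_apply]
      rfl
    · rw [List.map_map, ← hge, xorAll, toK_foldl]
      have : List.range Ms.length = (List.finRange Ms.length).map Fin.val := by
        exact List.map_coe_finRange_eq_range.symm
      rw [this, List.map_map]
      refine congrArg List.sum (List.map_congr_left fun k _ => ?_)
      simp only [Function.comp_apply]
      rw [hsum (f k) (by rw [hf]; exact k.2), hf, toK_mulP hw, toK_mulP hw]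

end Sem

end H51.E6Max
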