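import Cfsg.Agent.H60.TE6.Rep
import Cfsg.Agent.H51.E6Max.AdData

/-!
Interface for the local subgroups of ²E₆(2) at the primes above five: the bracket of the adjoint module,
packed products, and the operations on subspaces attached to a subgroup.
-/

set_option autoImplicit false

namespace H51.E6Max

open Cfsg.Lie H52 H60.TE6

universe u

/-- Entrywise scaling of rows: the row combination with the coefficients of a packed row. -/
def combRow (R B : ℕ) : ℕ :=
  (List.range 78).foldl (fun acc k => acc ^^^ scale (rent R k) (rowOf B k)) 0

/-- A one at the start of every row. -/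
def rowMask : ℕ := ((List.range 78).map fun m => 1 <<< (156 * m)).foldr (· ^^^ ·) 0

/-- Product of packed matrices: each column of planes times the packed row. -/
def mulP (A B : ℕ) : ℕ :=
  (List.range 78).foldl (fun acc k => acc ^^^ ((((A >>> k) &&& rowMask) * rowOf B k) ^^^
    (((A >>> (78 + k)) &&& rowMask) * scale 2 (rowOf B k)))) 0

/-- A scalar times a packed matrix. -/
def scaleP (c A : ℕ) : ℕ :=
  (List.range 78).foldl (fun acc i => acc ^^^ (scale c (rowOf A i) <<< (156 * i))) 0

/-- The bracket matrix of column `c` of a packed matrix. -/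
def adCol (B c : ℕ) : ℕ :=
  (List.range 78).foldl (fun acc j => acc ^^^ scaleP (ent B j c) (adRows.getD j 0)) 0

variable {K : Type u} [Field K]

/-- The adjoint module. -/
abbrev V (K : Type u) := chevE6.Idx → K

/-- The matrix of the bracket with a vector. -/
noncomputable def adMat (w : K) (x : V K) : Matrix chevE6.Idx chevE6.Idx K :=
  ∑ j, x j • toK w (adRows.getD (code chevE6 j) 0)

/-- The bracket. -/
noncomputable def bra (w : K) (x y : V K) : V K := (adMat w x).mulVec y

/-- The subspace of a packed matrix: its column space. -/
noncomputable def colSp (w : K) (B : ℕ) : Submodule K (V K) :=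
  Submodule.span K (Set.range fun j => fun i => toK w B i j)

/-- The fixed space of a set of matrices. -/
def fixSp (S : Set (Matrix chevE6.Idx chevE6.Idx K)) : Submodule K (V K) :=
  ⨅ y ∈ S, LinearMap.ker (Matrix.mulVecLin y - LinearMap.id)

/-- The commutator space of a set of matrices. -/
def imgSp (S : Set (Matrix chevE6.Idx chevE6.Idx K)) : Submodule K (V K) :=
  ⨆ y ∈ S, LinearMap.range (Matrix.mulVecLin y - LinearMap.id)

/-- The span of the brackets of two subspaces. -/
noncomputable def brSp (w : K) (A B : Submodule K (V K)) : Submodule K (V K) :=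
  Submodule.span K {z | ∃ a ∈ A, ∃ b ∈ B, z = bra w a b}

/-- The span of the twisted averages of brackets along the powers of an element. -/
noncomputable def twSp (w : K) (x : Matrix chevE6.Idx chevE6.Idx K) (p c : ℕ)
    (A B : Submodule K (V K)) : Submodule K (V K) :=
  Submodule.span K {z | ∃ a ∈ A, ∃ b ∈ B,
    z = ∑ i ∈ Finset.range p, bra w ((x ^ i).mulVec a) ((x ^ (c * i)).mulVec b)}

/-- Equivariance of the bracket for the twisted group (proved in `H48`). -/
def EquivFor (w : K) : Prop :=
  ∀ g : GL chevE6.Idx K, g ∈ twistedE6 K 2 → ∀ a b : V K,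
    bra w ((g : Matrix chevE6.Idx chevE6.Idx K).mulVec a) ((g : Matrix chevE6.Idx chevE6.Idx K).mulVec b) =
      (g : Matrix chevE6.Idx chevE6.Idx K).mulVec (bra w a b)

end H51.E6Max
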