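import Cfsg.Agent.H51.E6Max.Witness
import Cfsg.Agent.H51.E6Max.La.Check
import Cfsg.Agent.H51.E6Max.Lb.Check
import Cfsg.Agent.H51.E6Max.Le.Check
import Cfsg.Agent.H51.E6Max.LS.Check
import Cfsg.Agent.H52.E6MaxReduce

/-!
The elementary subgroup of order 49: the intersection of the bracket spaces of its elements of trace zero is
invariant under its normaliser, and shows that the normaliser is not maximal.
-/

set_option autoImplicit false
set_option maxRecDepth 100000
set_option maxHeartbeats 0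

namespace H51.E6Max

open Cfsg.Lie H52 H60.TE6 H36.E6Max H48.E6Max Matrix

universe u

/-- The exponent pairs of the four lines of trace zero. -/
theorem inT_line : ∀ i < 7, ∀ j < 7, LS.inT i j = true →
    ∃ q ∈ [(1, 0), (1, 1), (1, 2), (1, 4)], ∃ k < 7, (k * q.1) % 7 = i ∧ (k * q.2) % 7 = j := by
  decide +kernel

theorem le_eq : mulP La.X Lb.X = Le.X := by decide +kernel

variable {K : Type u} [Field K] [CharP K 2] {w : K}

/-- The bracket space of the fixed space of a cyclic group. -/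
noncomputable def brFix (w : K) (y : twistedE6 K 2) : Submodule K (V K) :=
  brSp w (fixSp (mats (Subgroup.zpowers y))) (fixSp (mats (Subgroup.zpowers y)))

omit [CharP K 2] in
theorem act_brFix_le (hE : EquivFor w) (n y : twistedE6 K 2) :
    act n (brFix w y) ≤ brFix w (n * y * n⁻¹) := by
  have key : ∀ v ∈ fixSp (mats (Subgroup.zpowers y)),
      mat n *ᵥ v ∈ fixSp (mats (Subgroup.zpowers (n * y * n⁻¹))) := by
    intro v hv
    simp only [fixSp_zpowers, LinearMap.mem_ker, LinearMap.sub_apply, mulVecLin_apply,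
      LinearMap.id_apply, sub_eq_zero] at hv ⊢
    rw [conj_mulVec, hv]
  rw [act, brFix, brSp, Submodule.map_span_le]
  rintro _ ⟨a, ha, b, hb, rfl⟩
  exact Submodule.subset_span ⟨mat n *ᵥ a, key a ha, mat n *ᵥ b, key b hb, (hE _ n.2 a b).symm⟩

omit [CharP K 2] in
theorem act_brFix (hE : EquivFor w) (n y : twistedE6 K 2) :
    act n (brFix w y) = brFix w (n * y * n⁻¹) := by
  refine le_antisymm (act_brFix_le hE n y) ?_
  have h := act_brFix_le hE n⁻¹ (n * y * n⁻¹)
  rw [show n⁻¹ * (n * y * n⁻¹) * n⁻¹⁻¹ = y by group] at h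
  calc brFix w (n * y * n⁻¹) = act n (act n⁻¹ (brFix w (n * y * n⁻¹))) := by
        rw [← act_mul, mul_inv_cancel, act_one]
    _ ≤ act n (brFix w y) := Submodule.map_mono h

variable (hw : w * w = w + 1) (hE : EquivFor w)
include hw hE

/-- The data of the subgroup of order 49 and its non-maximality. -/
theorem case_S [Finite K] : ∃ a b n : twistedE6 K 2, mat a = toK w La.X ∧ mat b = toK w Lb.X ∧ a ^ 7 = 1 ∧
    b ^ 7 = 1 ∧ Commute a b ∧ a ≠ 1 ∧ (∀ i < 7, a ^ i ≠ b) ∧ n * a = a * n ∧ n * b = b ^ 2 * n ∧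
    ¬ IsCoatom (Subgroup.normalizer
      (Subgroup.closure ({a, b} : Set (twistedE6 K 2)) : Set (twistedE6 K 2))) := by
  have hxa := mat_elG hw La.xw_lt La.x_eq
  have hxb := mat_elG hw Lb.xw_lt Lb.x_eq
  have hxe := mat_elG hw Le.xw_lt Le.x_eq
  have hn := mat_elG hw LS.nw_lt LS.n_eq
  have hni := mat_elG hw LS.niw_lt LS.ni_eq
  have hh := mat_elG hw LS.hw_lt LS.h_eq
  generalize elG hw La.xw La.xw_lt = a at hxa
  generalize elG hw Lb.xw Lb.xw_lt = b at hxb
  generalize elG hw Le.xw Le.xw_lt = e at hxe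
  generalize elG hw LS.nw LS.nw_lt = n at hn
  generalize elG hw LS.niw LS.niw_lt = n' at hni
  generalize elG hw LS.hw LS.hw_lt = h at hh
  obtain ⟨hpa, ha7⟩ := pow_sem hw hxa La.x_pow
  obtain ⟨hpb, hb7⟩ := pow_sem hw hxb Lb.x_pow
  have hinv : n⁻¹ = n' := inv_eq_of_mul_eq_one_right (mat_inj (by
    rw [mat_mul, hn, hni, ← toK_mulP hw, LS.n_inv, toK_idY, mat_one]))
  rw [← hinv] at hni
  have hab2 : ∀ i ≤ 7, ∀ j ≤ 7, mat (a ^ i * b ^ j) =
      toK w (mulP (La.Xs.getD i 0) (Lb.Xs.getD j 0)) := by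
    intro i hi j hj
    rw [mat_mul, mat_pow, mat_pow, toK_mulP hw, hpa i hi, hpb j hj]
  have hcomm : Commute a b := mat_inj (by
    rw [mat_mul, mat_mul, hxa, hxb, ← toK_mulP hw, ← toK_mulP hw, LS.ab_comm])
  have ha1 : a ≠ 1 := by
    intro e1
    refine toK_ne_of_nzB hw LS.a_ne ?_
    rw [toK_add, ← hxa, e1, toK_idY, mat_one]
    ext r s; exact CharTwo.add_self_eq_zero _
  have hab : ∀ i < 7, a ^ i ≠ b := by
    intro i hi e1
    have hc := LS.ab_ne
    simp only [List.all_eq_true, List.mem_range] at hc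
    refine toK_ne_of_nzB hw (hc i hi) ?_
    rw [toK_add, hpa i hi.le, ← mat_pow, e1, hxb]
    ext r s; exact CharTwo.add_self_eq_zero _
  have hna : n * a = a * n := mat_inj (by
    rw [mat_mul, mat_mul, hn, hxa, ← toK_mulP hw, ← toK_mulP hw, LS.n_a])
  have hnb : n * b = b ^ 2 * n := mat_inj (by
    rw [mat_mul, mat_mul, hn, mat_pow, ← hpb 2 (by norm_num), hxb, ← toK_mulP hw, ← toK_mulP hw,
      LS.n_b])
  refine ⟨a, b, n, hxa, hxb, ha7, hb7, hcomm, ha1, hab, hna, hnb, ?_⟩
  have he : e = a * b := mat_inj (by rw [mat_mul, hxe, hxa, hxb, ← toK_mulP hw, le_eq])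
  -- the four values
  have hca : n * a * n⁻¹ = a := by rw [hna, mul_inv_cancel_right]
  have hcb : n * b * n⁻¹ = b ^ 2 := by rw [hnb, mul_inv_cancel_right]
  have B0 : brFix w (a ^ 1 * b ^ 0) = LinearMap.ker (Matrix.mulVecLin (toK w La.WQ)) := by
    rw [pow_one, pow_zero, mul_one, brFix, fix_eq hw hxa La.a_eq La.F_zero La.F_split,
      br_eq hw La.WT La.wt_lt La.W_zero La.W_split La.w_le La.w_ge,
      ker_eq hw La.W_zero La.W_split]
  have B1 : brFix w (a ^ 1 * b ^ 1) = LinearMap.ker (Matrix.mulVecLin (toK w Le.WQ)) := by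
    rw [pow_one, pow_one, ← he, brFix, fix_eq hw hxe Le.a_eq Le.F_zero Le.F_split,
      br_eq hw Le.WT Le.wt_lt Le.W_zero Le.W_split Le.w_le Le.w_ge,
      ker_eq hw Le.W_zero Le.W_split]
  have step : ∀ t : ℕ, n * (a ^ 1 * b ^ t) * n⁻¹ = a ^ 1 * b ^ (2 * t) := by
    intro t
    rw [pow_one, show n * (a * b ^ t) * n⁻¹ = (n * a * n⁻¹) * (n * b * n⁻¹) ^ t by
      rw [conj_pow]; group, hca, hcb, pow_mul]
  have B2 : brFix w (a ^ 1 * b ^ 2) = LinearMap.ker (Matrix.mulVecLin (toK w LS.Q2)) := by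
    have h := act_brFix hE n (a ^ 1 * b ^ 1)
    rw [step 1, B1, act_ker hw hni LS.q2_eq, mul_one] at h
    exact h.symm
  have B4 : brFix w (a ^ 1 * b ^ 4) = LinearMap.ker (Matrix.mulVecLin (toK w LS.Q4)) := by
    have h := act_brFix hE n (a ^ 1 * b ^ 2)
    rw [step 2, B2, act_ker hw hni LS.q4_eq] at h
    exact h.symm
  set S := Subgroup.closure ({a, b} : Set (twistedE6 K 2)) with hS
  have hmemS : ∀ i j : ℕ, a ^ i * b ^ j ∈ S := fun i j =>
    mul_mem (Subgroup.pow_mem _ (Subgroup.subset_closure (by simp)) _)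
      (Subgroup.pow_mem _ (Subgroup.subset_closure (by simp)) _)
  let T : Set (twistedE6 K 2) := {y | y ∈ S ∧ y ≠ 1 ∧ Matrix.trace (mat y) = 0}
  have htr := LS.traces
  simp only [List.all_eq_true, List.mem_range, Bool.or_eq_true] at htr
  have hdec : ∀ i < 7, ∀ j < 7, a ^ i * b ^ j ≠ 1 →
      (Matrix.trace (mat (a ^ i * b ^ j)) = 0 ↔ LS.inT i j = true) := by
    intro i hi j hj hne
    rw [hab2 i hi.le j hj.le, trC_eq_zero hw]
    rcases htr i hi j hj with h0 | h0
    · exfalso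
      simp only [Bool.and_eq_true, beq_iff_eq] at h0
      rw [h0.1, h0.2, pow_zero, pow_zero, mul_one] at hne
      exact hne rfl
    · rw [beq_iff_eq] at h0
      rw [← h0, beq_iff_eq]
      rfl
  have hW : (⨅ y ∈ T, brFix w y) = colSp w LS.SB := by
    rw [← ker_eq hw LS.s_zero LS.s_split]
    refine le_antisymm (fun v hv => ?_) (le_iInf₂ fun y hy => ?_)
    · simp only [Submodule.mem_iInf] at hv
      have hq : ∀ j : ℕ, j < 7 → LS.inT 1 j = true → v ∈ brFix w (a ^ 1 * b ^ j) := by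
        intro j hj hin
        have hne : a ^ 1 * b ^ j ≠ 1 := by
          intro h1
          have h2 : a ^ 1 * b ^ j = a ^ 0 * b ^ 0 := by simpa using h1
          exact absurd (H52.E6MaxReduce.pair_inj ha7 hb7 ha1 hab (by norm_num) hj (by norm_num)
            (by norm_num) h2).1 (by norm_num)
        exact hv _ ⟨hmemS 1 j, hne, (hdec 1 (by norm_num) j hj hne).2 hin⟩
      have h0 := hq 0 (by norm_num) (by decide)
      have h1 := hq 1 (by norm_num) (by decide)
      have h2 := hq 2 (by norm_num) (by decide)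
      have h4 := hq 4 (by norm_num) (by decide)
      rw [B0] at h0; rw [B1] at h1; rw [B2] at h2; rw [B4] at h4
      simp only [LinearMap.mem_ker, mulVecLin_apply] at h0 h1 h2 h4 ⊢
      rw [← LS.s_sum, toK_add, toK_add, toK_add, toK_mulP hw, toK_mulP hw, toK_mulP hw,
        toK_mulP hw]
      simp only [add_mulVec, ← mulVec_mulVec, h0, h1, h2, h4, mulVec_zero, add_zero]
    · obtain ⟨hyS, hy1, hy0⟩ := hy
      obtain ⟨i, hi, j, hj, rfl⟩ := H52.E6MaxReduce.mem_closure_pair ha7 hb7 hcomm hyS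
      obtain ⟨q, hq, k, hk, hki, hkj⟩ := inT_line i hi j hj ((hdec i hi j hj hy1).1 hy0)
      have hz : a ^ i * b ^ j = (a ^ q.1 * b ^ q.2) ^ k := by
        rw [(hcomm.pow_pow _ _).mul_pow, ← pow_mul, ← pow_mul, mul_comm q.1, mul_comm q.2,
          pow_eq_pow_mod (k * q.1) ha7, hki, pow_eq_pow_mod (k * q.2) hb7, hkj]
      have h7 : (a ^ q.1 * b ^ q.2) ^ 7 = 1 := by
        rw [(hcomm.pow_pow _ _).mul_pow, ← pow_mul, ← pow_mul, mul_comm q.1, mul_comm q.2,
          pow_mul, pow_mul, ha7, hb7, one_pow, one_pow, one_mul]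
      have hk0 : k ≠ 0 := by
        rintro rfl
        exact hy1 (by rw [hz, pow_zero])
      have heq : Subgroup.zpowers (a ^ i * b ^ j) = Subgroup.zpowers (a ^ q.1 * b ^ q.2) := by
        refine le_antisymm ?_ ?_
        · rw [Subgroup.zpowers_le, hz]
          exact Subgroup.pow_mem _ (Subgroup.mem_zpowers _) _
        · obtain ⟨m, -, hm⟩ : ∃ m < 7, k * m % 7 = 1 := by
            have : ∀ r < 7, r ≠ 0 → ∃ m < 7, r * m % 7 = 1 := by decide
            exact this k hk hk0
          rw [Subgroup.zpowers_le]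
          have hmem := Subgroup.pow_mem _ (Subgroup.mem_zpowers (a ^ i * b ^ j)) m
          rwa [hz, ← pow_mul, pow_eq_pow_mod (k * m) h7, hm, pow_one, ← hz] at hmem
      have hle : LinearMap.ker (Matrix.mulVecLin (toK w LS.SQ)) ≤ brFix w (a ^ q.1 * b ^ q.2) := by
        rw [ker_eq hw LS.s_zero LS.s_split, colSp_eq]
        simp only [List.mem_cons, List.not_mem_nil, or_false] at hq
        rcases hq with rfl | rfl | rfl | rfl
        all_goals
          first | rw [B0] | rw [B1] | rw [B2] | rw [B4]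
          rintro _ ⟨v, rfl⟩
          simp only [LinearMap.mem_ker, mulVecLin_apply, mulVec_mulVec, ← toK_mulP hw]
          first | rw [LS.s_a] | rw [LS.s_e] | rw [LS.s_2] | rw [LS.s_4]
          rw [toK_zero, zero_mulVec]
      rw [brFix, heq]
      exact hle
  refine not_coatom_cert hw (fun m hm => ?_) LS.s_zero LS.s_split hh LS.h_sq LS.h_stab ?_
    (mat_elG hw LS.gw_lt LS.g_eq) LS.g_move
  · rw [← hW]
    refine act_eq_of_le (fun g hg => le_iInf₂ fun y hy => ?_) hm
    obtain ⟨hyS, hy1, hy0⟩ := hy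
    have hconj : g * (g⁻¹ * y * g) * g⁻¹ = y := by group
    have hxS : g⁻¹ * y * g ∈ S := (Subgroup.mem_normalizer_iff.1 hg _).2 (by rwa [hconj])
    have hx1 : g⁻¹ * y * g ≠ 1 := fun h1 => hy1 (by rw [← hconj, h1, mul_one, mul_inv_cancel])
    have hx0 : Matrix.trace (mat (g⁻¹ * y * g)) = 0 := by
      rw [mat_mul, Matrix.trace_mul_comm, ← mat_mul]
      rwa [show g * (g⁻¹ * y) = y by group]
    refine le_trans (Submodule.map_mono (iInf₂_le _ ⟨hxS, hx1, hx0⟩)) ?_
    have := act_brFix_le hE g (g⁻¹ * y * g)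
    rwa [hconj] at this
  · intro hN
    obtain ⟨i, hi, j, hj, hij⟩ := H52.E6MaxReduce.mem_closure_pair ha7 hb7 hcomm
      ((Subgroup.mem_normalizer_iff.1 hN a).1 (Subgroup.subset_closure (by simp)))
    have ho := LS.h_out
    simp only [List.all_eq_true, List.mem_range] at ho
    refine toK_ne_of_nzB hw (ho i hi j hj) ?_
    rw [toK_add, toK_mulP hw, toK_mulP hw, ← hh, ← hxa, ← mat_mul, ← mat_mul, ← hab2 i hi.le j hj.le,
      ← hij, inv_eq_of_mul_eq_one_right (sq_one hw hh LS.h_sq)]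
    ext r s; exact CharTwo.add_self_eq_zero _

end H51.E6Max
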