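import Cfsg.Agent.H51.E6Max.Cases
import Cfsg.Agent.H51.E6Max.SCase
import Cfsg.Agent.H48.E6Max.Equiv
import Cfsg.Agent.H52.E6MaxReduce

/-!
In the twisted group of type E6 over the field with four elements, the normaliser of a nontrivial subgroup
of prime power order, for a prime above five, is never maximal.
-/

set_option autoImplicit false
set_option maxRecDepth 100000

namespace H51.E6Max

open Cfsg.Lie H52 H60.TE6 H36.E6Max H48.E6Max

theorem lg_eq : mulP La.X (Lb.Xs.getD 5 0) = Lg.X := by decide +kernel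

/-- Conjugation preserves non-maximality of the normaliser. -/
theorem not_coatom_map {G : Type*} [Group G] (g : G) (P : Subgroup G)
    (h : ¬ IsCoatom (Subgroup.normalizer (P : Set G))) :
    ¬ IsCoatom (Subgroup.normalizer
      ((Subgroup.map (MulAut.conj g).toMonoidHom P : Subgroup G) : Set G)) := by
  rw [← Subgroup.map_equiv_normalizer_eq P (MulAut.conj g)]
  exact fun hc => h (((MulAut.conj g).mapSubgroup.isCoatom_iff _).1 hc)

theorem no_large_prime {K : Type*} [Field K] [Fintype K] (hK : Fintype.card K = 4) (p : ℕ)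
    (hp : p.Prime) (h5 : 5 < p) (P : Subgroup (twistedE6 K 2)) (hP : IsPGroup p P) (hP1 : P ≠ ⊥) :
    ¬ IsCoatom (Subgroup.normalizer (P : Set (twistedE6 K 2))) := by
  haveI : CharP K 2 := by
    have : Fact (Nat.Prime 2) := ⟨Nat.prime_two⟩
    exact charP_of_card_eq_prime_pow (f := 2) (by rw [hK]; rfl)
  obtain ⟨w, hw⟩ : ∃ w : K, w * w = w + 1 := by
    classical
    obtain ⟨w, -, hw⟩ := Finset.exists_mem_notMem_of_card_lt_card
      (s := ({0, 1} : Finset K)) (t := Finset.univ) (by
        rw [Finset.card_univ, hK]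
        exact lt_of_le_of_lt Finset.card_le_two (by norm_num))
    simp only [Finset.mem_insert, Finset.mem_singleton, not_or] at hw
    refine ⟨w, ?_⟩
    have h4 := FiniteField.pow_card_sub_one_eq_one w hw.1
    rw [hK] at h4
    have h5 : (w - 1) * (w * w + w + 1) = 0 := by linear_combination h4
    have h6 := (mul_eq_zero.1 h5).resolve_left (sub_ne_zero.2 hw.2)
    have h2 : (2 : K) = 0 := CharTwo.two_eq_zero
    linear_combination h6 - (w + 1) * h2
  have hE : EquivFor w := fun _ hg a b => H48.E6Max.equiv hw hK hg a b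
  obtain ⟨a, b, n, hxa, hxb, ha, hb, hc, ha1, hab, hna, hnb, gS⟩ := case_S hw hE
  have hord : ∀ {q X : ℕ}, q.Prime → CaseGood K w q X → ∃ x : twistedE6 K 2,
      orderOf x = q ∧ ¬ IsCoatom (Subgroup.normalizer (Subgroup.zpowers x : Set (twistedE6 K 2))) := by
    rintro q X hq ⟨x, -, hx, hx1, hg⟩
    haveI : Fact q.Prime := ⟨hq⟩
    exact ⟨x, orderOf_eq_prime hx hx1, hg⟩
  have hid : ∀ {q X : ℕ} (y : twistedE6 K 2), mat y = toK w X → CaseGood K w q X →
      ¬ IsCoatom (Subgroup.normalizer (Subgroup.zpowers y : Set (twistedE6 K 2))) := by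
    rintro q X y hy ⟨x, hx, -, -, hg⟩
    rwa [mat_inj (hy.trans hx.symm)]
  have ge : mat (a * b) = toK w Le.X := by
    rw [mat_mul, hxa, hxb, ← toK_mulP hw, le_eq]
  have g5 : mat (a * b ^ 5) = toK w Lg.X := by
    rw [mat_mul, mat_pow, ← (pow_sem hw hxb Lb.x_pow).1 5 (by norm_num), hxa, ← toK_mulP hw, lg_eq]
  have g3 := not_coatom_map n _ (hid _ g5 (case_g hw hE))
  rw [MonoidHom.map_zpowers, show (MulAut.conj n).toMonoidHom (a * b ^ 5) =
      (n * a * n⁻¹) * (n * b * n⁻¹) ^ 5 by rw [conj_pow]; simp [mul_assoc],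
    hna, mul_inv_cancel_right, hnb, mul_inv_cancel_right, ← pow_mul,
    pow_eq_pow_mod (2 * 5) hb] at g3
  exact H52.E6MaxReduce.reduce
    (fun Q => ¬ IsCoatom (Subgroup.normalizer (Q : Set (twistedE6 K 2)))) not_coatom_map
    (H52.E6MaxReduce.card_twistedE6 hK)
    (hord (by norm_num) (case_11 hw hE)) (hord (by norm_num) (case_13 hw hE))
    (hord (by norm_num) (case_17 hw hE)) (hord (by norm_num) (case_19 hw hE))
    a b n ha hb hc ha1 hab hna hnb (hid a hxa (case_a hw hE)) (hid b hxb (case_b hw hE))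
    (hid _ ge (case_e hw hE)) g3 gS p hp h5 P hP hP1

end H51.E6Max
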