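import Cfsg.Agent.H51.E6Max.Cert

/-!
Non-maximality of the normaliser of a subgroup from checked packed identities: an invariant subspace, an
element stabilising it outside the normaliser, and an element moving it.
-/

set_option autoImplicit false
set_option maxRecDepth 100000

namespace H51.E6Max

open Cfsg.Lie H52 H60.TE6 H36.E6Max H48.E6Max Matrix

universe u

variable {K : Type u} [Field K] [CharP K 2] {w : K}

omit [CharP K 2] in
theorem mat_inj {x y : twistedE6 K 2} (h : mat x = mat y) : x = y := Subtype.ext (Units.ext h)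

/-- The trace of a packed matrix, as a code. -/
def trC (A : ℕ) : ℕ := (List.range 78).foldl (fun s i => s ^^^ ent A i i) 0

theorem val_xor (a b : ℕ) : val w (a ^^^ b) = val w a + val w b := by
  simp only [val, Nat.testBit_xor, b2k_xor]; ring

theorem trace_toK (A : ℕ) : Matrix.trace (toK w A) = val w (trC A) := by
  have key : ∀ (L : List ℕ) (s : ℕ), val w (L.foldl (fun s i => s ^^^ ent A i i) s) =
      val w s + (L.map fun i => rv w (rowOf A i) i).sum := by
    intro L
    induction L with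
    | nil => intro s; simp
    | cons i L ih =>
      intro s
      rw [List.foldl_cons, ih, val_xor, List.map_cons, List.sum_cons, ent, val_rent, add_assoc]
  rw [trC, key, (val_vals w).1, zero_add, range_sum_mat]
  rfl

variable (hw : w * w = w + 1)
include hw

theorem trC_eq_zero {A : ℕ} : Matrix.trace (toK w A) = 0 ↔ trC A = 0 := by
  rw [trace_toK]
  refine ⟨fun h => val_eq_zero hw ?_ h, fun h => by rw [h, (val_vals w).1]⟩
  exact List.foldlRecOn (motive := fun s => s < 4) _ _ (by norm_num) fun s hs i _ =>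
    Nat.xor_lt_two_pow (n := 2) hs (rent_lt _ _)

/-- A checked element maps a column space into itself. -/
theorem act_colSp_le {g : twistedE6 K 2} {G B Q R C : ℕ} (hg : mat g = toK w G)
    (h0 : mulP Q B = 0) (h1 : mulP R Q ^^^ mulP B C = idY) (hs : mulP Q (mulP G B) = 0) :
    act g (colSp w B) ≤ colSp w B := by
  rintro _ ⟨v, hv, rfl⟩
  rw [colSp_eq] at hv
  obtain ⟨t, rfl⟩ := hv
  rw [← ker_eq hw h0 h1]
  simp only [LinearMap.mem_ker, mulVecLin_apply, mulVec_mulVec]
  rw [hg, ← toK_mulP hw, ← toK_mulP hw, hs, toK_zero, zero_mulVec]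

theorem sq_one {h : twistedE6 K 2} {HM : ℕ} (hh : mat h = toK w HM) (h2 : mulP HM HM = idY) :
    h * h = 1 := by
  apply mat_inj
  rw [mat_mul, hh, ← toK_mulP hw, h2, toK_idY, mat_one]

/-- A checked witness shows that the normaliser is not maximal. -/
theorem not_coatom_cert {P : Subgroup (twistedE6 K 2)} {B Q R C : ℕ}
    (hW : ∀ n ∈ Subgroup.normalizer (P : Set (twistedE6 K 2)), act n (colSp w B) = colSp w B)
    (h0 : mulP Q B = 0) (h1 : mulP R Q ^^^ mulP B C = idY)
    {h : twistedE6 K 2} {HM : ℕ} (hh : mat h = toK w HM) (h2 : mulP HM HM = idY)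
    (hs : mulP Q (mulP HM B) = 0)
    (hhN : h ∉ Subgroup.normalizer (P : Set (twistedE6 K 2)))
    {g : twistedE6 K 2} {GM : ℕ} (hg : mat g = toK w GM)
    (hm : nzB (mulP Q (mulP GM B)) = true) :
    ¬ IsCoatom (Subgroup.normalizer (P : Set (twistedE6 K 2))) := by
  have hle := act_colSp_le hw hh h0 h1 hs
  have he : act h (colSp w B) = colSp w B := by
    refine le_antisymm hle ?_
    calc colSp w B = act h (act h (colSp w B)) := by rw [← act_mul, sq_one hw hh h2, act_one]
      _ ≤ act h (colSp w B) := Submodule.map_mono hle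
  refine not_coatom hW he hhN (g := g) fun e => toK_ne_of_nzB hw hm ?_
  rw [toK_mulP hw, toK_mulP hw, ← hg]
  refine Matrix.ext_of_mulVec_single fun j => ?_
  generalize (Pi.single j (1 : K) : V K) = v
  have hm' : mat g *ᵥ (toK w B *ᵥ v) ∈ colSp w B := by
    rw [← e]
    exact ⟨_, by rw [colSp_eq]; exact ⟨v, rfl⟩, rfl⟩
  rw [← ker_eq hw h0 h1, LinearMap.mem_ker, mulVecLin_apply] at hm'
  rw [← mulVec_mulVec, ← mulVec_mulVec, hm', zero_mulVec]

/-- An element conjugating a generator outside the cyclic group is outside the normaliser. -/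
theorem not_mem_normalizer {x h : twistedE6 K 2} {X HM p : ℕ} {Xs : List ℕ} (hp : 0 < p)
    (hx : mat x = toK w X) (hX : powB p X Xs = true) (hh : mat h = toK w HM)
    (h2 : mulP HM HM = idY)
    (ho : ((List.range p).all fun i => nzB (mulP (mulP HM X) HM ^^^ Xs.getD i 0)) = true) :
    h ∉ Subgroup.normalizer (Subgroup.zpowers x : Set (twistedE6 K 2)) := by
  intro hN
  obtain ⟨hpow, hone⟩ := pow_sem hw hx hX
  obtain ⟨k, hk⟩ := Subgroup.mem_zpowers_iff.1
    ((Subgroup.mem_normalizer_iff.1 hN x).1 (Subgroup.mem_zpowers x))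
  obtain ⟨i, hi, hki⟩ : ∃ i < p, x ^ k = x ^ i := by
    refine ⟨(k % (p : ℤ)).toNat, ?_, ?_⟩
    · have h0 := Int.emod_lt_of_pos k (show (0 : ℤ) < p by exact_mod_cast hp)
      have h1 := Int.emod_nonneg k (show (p : ℤ) ≠ 0 by omega)
      omega
    · rw [← zpow_natCast x (k % (p : ℤ)).toNat,
        Int.toNat_of_nonneg (Int.emod_nonneg k (show (p : ℤ) ≠ 0 by omega))]
      conv_lhs => rw [← Int.mul_ediv_add_emod k p]
      rw [_root_.zpow_add, _root_.zpow_mul, zpow_natCast, hone, _root_.one_zpow, one_mul]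
  simp only [List.all_eq_true, List.mem_range] at ho
  refine toK_ne_of_nzB hw (ho i hi) ?_
  rw [toK_add, toK_mulP hw, toK_mulP hw, ← hh, ← hx, ← mat_mul, ← mat_mul, hpow i hi.le, ← mat_pow,
    ← hki, hk, inv_eq_of_mul_eq_one_right (sq_one hw hh h2)]
  ext r s
  exact CharTwo.add_self_eq_zero _

/-- The same, with the generator nontrivial. -/
theorem ne_one {x h : twistedE6 K 2} {X HM p : ℕ} {Xs : List ℕ} (hp : 0 < p)
    (hx : mat x = toK w X) (hX : powB p X Xs = true) (hh : mat h = toK w HM)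
    (h2 : mulP HM HM = idY)
    (ho : ((List.range p).all fun i => nzB (mulP (mulP HM X) HM ^^^ Xs.getD i 0)) = true) :
    x ≠ 1 := by
  rintro rfl
  refine not_mem_normalizer hw hp hx hX hh h2 ho (Subgroup.mem_normalizer_iff.2 fun y => ?_)
  simp only [Subgroup.zpowers_one_eq_bot, Subgroup.mem_bot]
  exact conj_eq_one_iff.symm

/-- A checked sum of two column spaces. -/
theorem sup_eq {FB AB WB WF WA T0 T1 : ℕ} (hf : mulP WB WF = FB) (ha : mulP WB WA = AB)
    (hs : mulP FB T0 ^^^ mulP AB T1 = WB) : colSp w FB ⊔ colSp w AB = colSp w WB := by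
  simp only [colSp_eq]
  refine le_antisymm (sup_le (range_le_of_mul (by rw [← hf, toK_mulP hw]))
    (range_le_of_mul (by rw [← ha, toK_mulP hw]))) ?_
  rintro _ ⟨v, rfl⟩
  rw [mulVecLin_apply, ← hs, toK_add, toK_mulP hw, toK_mulP hw, add_mulVec, ← mulVec_mulVec,
    ← mulVec_mulVec]
  exact Submodule.add_mem_sup ⟨_, rfl⟩ ⟨_, rfl⟩

/-- The image of a checked kernel under a checked element. -/
theorem act_ker {n : twistedE6 K 2} {Q NI Q' : ℕ} (hn : mat n⁻¹ = toK w NI)
    (hq : mulP Q NI = Q') :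
    act n (LinearMap.ker (Matrix.mulVecLin (toK w Q))) =
      LinearMap.ker (Matrix.mulVecLin (toK w Q')) := by
  rw [← hq, toK_mulP hw, ← hn]
  ext v
  simp only [act, Submodule.mem_map, LinearMap.mem_ker, mulVecLin_apply]
  constructor
  · rintro ⟨u, hu, rfl⟩
    rw [← mulVec_mulVec, mat_mulVec_cancel, hu]
  · intro hv
    refine ⟨mat n⁻¹ *ᵥ v, by rwa [mulVec_mulVec], ?_⟩
    have := mat_mulVec_cancel n⁻¹ v
    rwa [inv_inv] at this

end H51.E6Max
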